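import Groth.Agent.L28.Moebius.Newton
import Groth.Agent.L11.NF.AdicHensel
import Groth.Agent.L11.NF.Places
import Groth.Agent.L11.NF.NormApprox
import Groth.Agent.L11.NF.RelNormForm
import Mathlib.LinearAlgebra.Matrix.Charpoly.Coeff
import Mathlib.LinearAlgebra.Matrix.Charpoly.Eigs
import Mathlib.FieldTheory.IsAlgClosed.Spectrum

/-!
# Units at unramified places are local norms
-/

set_option autoImplicit false
set_option linter.style.haveILetI false

open NumberField IsDedekindDomain WithZero Polynomial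
open scoped TensorProduct

namespace Groth.L28.Moebius

universe u

attribute [local instance] Groth.L11.RelNorm.towerAlg

variable {k K L : Type u} [Field k] [NumberField k] [Field K] [NumberField K] [Field L] [NumberField L]
  [Algebra k K] [Algebra K L] [Algebra k L] [IsScalarTower k K L]
  (v : HeightOneSpectrum (RingOfIntegers k))

local notation "HOSK" => HeightOneSpectrum (RingOfIntegers K)

theorem exists_trace_unit (S : Finset HOSK)
    (hunr : ∀ W ∈ S, ∀ Q : Ideal (𝓞 L), Q.IsPrime → Q.LiesOver W.asIdeal →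
      Q.ramificationIdx (𝓞 K) = 1) :
    ∃ z : 𝓞 L, ∀ W ∈ S, W.valuation K (Algebra.trace K L (z : L)) = 1 := by
  classical
  haveI : FiniteDimensional K L := Module.Finite.of_restrictScalars_finite ℚ K L
  have hz : ∀ W : HOSK, ∃ z : 𝓞 L, W ∈ S → Algebra.intTrace (𝓞 K) (𝓞 L) z ∉ W.asIdeal := fun W => by
    by_cases hW : W ∈ S
    · obtain ⟨-, z, hz⟩ := Groth.L11.NormApprox.exists_residue K L W (hunr W hW)
      exact ⟨z, fun _ => hz⟩
    · exact ⟨0, fun h => absurd h hW⟩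
  choose g hg using hz
  let I : S → Ideal (𝓞 L) := fun W => W.1.asIdeal.map (algebraMap (𝓞 K) (𝓞 L))
  have hI : Pairwise fun W W' => IsCoprime (I W) (I W') := fun W W' h => by
    show IsCoprime (I W) (I W')
    rw [Ideal.isCoprime_iff_sup_eq]
    show Ideal.map _ W.1.asIdeal ⊔ Ideal.map _ W'.1.asIdeal = ⊤
    rw [← Ideal.map_sup, W.1.isMaximal.coprime_of_ne W'.1.isMaximal
      (fun e => h (Subtype.ext (HeightOneSpectrum.ext e))), Ideal.map_top]
  obtain ⟨z, hz⟩ := Ideal.exists_forall_sub_mem_ideal hI fun W => g W.1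
  refine ⟨z, fun W hW => ?_⟩
  haveI := W.isMaximal
  rw [← Algebra.algebraMap_intTrace (A := 𝓞 K) (B := 𝓞 L) (K := K) (L := L),
    W.valuation_eq_one_iff_notMem, ← Ideal.Quotient.eq_zero_iff_mem,
    ← Algebra.trace_quotient_eq_of_isDedekindDomain, Ideal.Quotient.eq.mpr (hz ⟨W, hW⟩),
    Algebra.trace_quotient_eq_of_isDedekindDomain, Ideal.Quotient.eq_zero_iff_mem]
  exact hg W hW

local notation "Ov" => HeightOneSpectrum.adicCompletionIntegers k v
local notation "Kv" => HeightOneSpectrum.adicCompletion k v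

variable (K) in
/-- The comparison from the integral tensor product. -/
noncomputable def toTensor : Ov ⊗[𝓞 k] 𝓞 K →ₐ[𝓞 k] Kv ⊗[k] K :=
  Algebra.TensorProduct.productMap
    (((Algebra.TensorProduct.includeLeft : Kv →ₐ[k] Kv ⊗[k] K).restrictScalars (𝓞 k)).comp
      { (algebraMap Ov Kv) with commutes' := fun _ => rfl })
    (((Algebra.TensorProduct.includeRight : K →ₐ[k] Kv ⊗[k] K).restrictScalars (𝓞 k)).comp
      (IsScalarTower.toAlgHom (𝓞 k) (𝓞 K) K))

theorem toTensor_tmul (s : Ov) (a : 𝓞 K) :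
    toTensor K v (s ⊗ₜ a) = (s : Kv) ⊗ₜ[k] (a : K) := by
  simp [toTensor, Algebra.TensorProduct.tmul_mul_tmul] <;> rfl

theorem exists_inv_of_notMem (s : 𝓞 k) (hs : s ∉ v.asIdeal) :
    ∃ t : Ov, algebraMap (𝓞 k) Ov s * t = 1 := by
  refine (?_ : IsUnit (algebraMap (𝓞 k) Ov s)).exists_right_inv
  rw [HeightOneSpectrum.adicCompletionIntegers.isUnit_iff_valued_eq_one]
  exact (HeightOneSpectrum.valuedAdicCompletion_eq_valuation' v _).trans
    ((v.valuation_eq_one_iff_notMem).mpr hs)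

theorem exists_lift_of_integral (x : K)
    (hx : ∀ W : HOSK, W.asIdeal.LiesOver v.asIdeal → W.valuation K x ≤ 1) :
    ∃ (s : 𝓞 k) (t : Ov) (a : 𝓞 K), algebraMap (𝓞 k) Ov s * t = 1 ∧
      algebraMap (𝓞 K) K a = algebraMap k K (s : k) * x ∧ toTensor K v (t ⊗ₜ a) = (1 : Kv) ⊗ₜ[k] x := by
  obtain ⟨s, hs, hint⟩ := Groth.L11.Places.exists_denominator v x hx
  obtain ⟨t, ht⟩ := exists_inv_of_notMem v s hs
  let a : 𝓞 K := ⟨_, hint⟩
  refine ⟨s, t, a, ht, rfl, (toTensor_tmul v t a).trans ?_⟩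
  show (t : Kv) ⊗ₜ[k] (algebraMap k K (s : k) * x) = _
  rw [← Algebra.smul_def, TensorProduct.tmul_smul, TensorProduct.smul_tmul', Algebra.smul_def]
  congr 1
  exact congrArg (fun y : Ov => (y : Kv)) ht

theorem exists_unit_lift (x : K)
    (hx : ∀ W : HOSK, W.asIdeal.LiesOver v.asIdeal → W.valuation K x = 1) :
    ∃ r : Ov ⊗[𝓞 k] 𝓞 K, IsUnit r ∧ toTensor K v r = (1 : Kv) ⊗ₜ[k] x := by
  obtain ⟨s, t, a, ht, ha, hr⟩ := exists_lift_of_integral v x fun W hW => (hx W hW).le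
  obtain ⟨s', t', a', ht', ha', -⟩ := exists_lift_of_integral v x⁻¹ fun W hW => by
    rw [map_inv₀, hx W hW, inv_one]
  obtain ⟨W, hW⟩ : ∃ W : HOSK, W.asIdeal.LiesOver v.asIdeal := by
    obtain ⟨Q, hQp, hQ⟩ := Ideal.exists_ideal_over_prime_of_isIntegral_of_isDomain (R := 𝓞 k) (S := 𝓞 K)
      v.asIdeal (by
        rw [(RingHom.injective_iff_ker_eq_bot _).mp (FaithfulSMul.algebraMap_injective (𝓞 k) (𝓞 K))]
        exact bot_le)
    exact ⟨⟨Q, hQp, @Ideal.ne_bot_of_liesOver_of_ne_bot _ _ _ _ _ _ _ v.ne_bot Q ⟨hQ.symm⟩⟩, ⟨hQ.symm⟩⟩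
  have hx0 : x ≠ 0 := fun h => by simpa [h] using hx W hW
  have haa : a * a' = algebraMap (𝓞 k) (𝓞 K) (s * s') := by
    refine FaithfulSMul.algebraMap_injective (𝓞 K) K ?_
    rw [map_mul, ha, ha', map_mul, map_mul]
    simp only [RingOfIntegers.coe_eq_algebraMap, ← IsScalarTower.algebraMap_apply]
    field_simp
  refine ⟨t ⊗ₜ a, IsUnit.of_mul_eq_one (t' ⊗ₜ a') ?_, hr⟩
  rw [Algebra.TensorProduct.tmul_mul_tmul, haa, Algebra.algebraMap_eq_smul_one, TensorProduct.tmul_smul,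
    TensorProduct.smul_tmul', Algebra.smul_def, map_mul,
    show algebraMap (𝓞 k) Ov s * algebraMap (𝓞 k) Ov s' * (t * t') =
      (algebraMap (𝓞 k) Ov s * t) * (algebraMap (𝓞 k) Ov s' * t') by ring, ht, ht', one_mul]
  rfl

theorem isIntegral_coeff_charpoly {ι : Type} [Fintype ι] [DecidableEq ι] (b : Module.Basis ι K L)
    (z : 𝓞 L) (i : ℕ) : IsIntegral ℤ ((Algebra.leftMulMatrix b (z : L)).charpoly.coeff i) := by
  let Ω := AlgebraicClosure K
  let g : K →+* Ω := algebraMap K Ω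
  refine (isIntegral_algHom_iff g.toIntAlgHom g.injective).1 ?_
  show IsIntegral ℤ (g _)
  let φ : L →ₐ[ℤ] Matrix ι ι Ω :=
    (g.mapMatrix.comp (Algebra.leftMulMatrix b).toRingHom).toIntAlgHom
  set MΩ := φ (z : L) with hMΩ
  obtain ⟨p, hp, hpz⟩ := RingOfIntegers.isIntegral_coe z
  have hroots : ∀ μ ∈ MΩ.charpoly.roots, μ ∈ integralClosure ℤ Ω := by
    intro μ hμ
    rw [mem_roots', ← Matrix.mem_spectrum_iff_isRoot_charpoly] at hμ
    have h := spectrum.subset_polynomial_aeval MΩ (p.map (algebraMap ℤ Ω)) ⟨μ, hμ.2, rfl⟩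
    rw [aeval_map_algebraMap, hMΩ, aeval_algHom_apply, aeval_def, hpz, map_zero] at h
    refine ⟨p, hp, ?_⟩
    have h2 : (p.map (algebraMap ℤ Ω)).eval μ = 0 := by
      by_contra hne
      rw [spectrum.mem_iff, sub_zero] at h
      exact h ((IsUnit.mk0 _ hne).map _)
    rwa [eval_map] at h2
  have hlift : MΩ.charpoly ∈ Polynomial.lifts (algebraMap (integralClosure ℤ Ω) Ω) := by
    rw [(IsAlgClosed.splits MΩ.charpoly).eq_prod_roots_of_monic MΩ.charpoly_monic]
    refine Subsemiring.multiset_prod_mem _ _ fun q hq => ?_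
    obtain ⟨μ, hμ, rfl⟩ := Multiset.mem_map.1 hq
    exact ⟨X - C ⟨μ, hroots μ hμ⟩, by simp⟩
  obtain ⟨y, hy⟩ := (lifts_iff_coeff_lifts _).1 hlift i
  have hc : MΩ.charpoly = (Algebra.leftMulMatrix b (z : L)).charpoly.map g :=
    Matrix.charpoly_map _ g
  rw [hc, coeff_map] at hy
  rw [← hy]
  exact y.2

/-- Units at the unramified places above `v` are norms from `k_v ⊗ L`. -/
theorem exists_norm_eq (c : K) (hc : ∀ W : HOSK, W.asIdeal.LiesOver v.asIdeal → W.valuation K c = 1)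
    (hunr : ∀ W : HOSK, W.asIdeal.LiesOver v.asIdeal → ∀ Q : Ideal (𝓞 L), Q.IsPrime →
      Q.LiesOver W.asIdeal → Q.ramificationIdx (𝓞 K) = 1) :
    ∃ x : Kv ⊗[k] L, IsUnit x ∧ Algebra.norm (Kv ⊗[k] K) x = (1 : Kv) ⊗ₜ[k] c := by
  classical
  haveI : FiniteDimensional K L := Module.Finite.of_restrictScalars_finite ℚ K L
  set S := Groth.L11.Places.above (K := K) v
  have hS : ∀ W : HOSK, W ∈ S ↔ W.asIdeal.LiesOver v.asIdeal := fun W => Groth.L11.Places.mem_above v W
  obtain ⟨z, hz⟩ := exists_trace_unit S fun W hW => hunr W ((hS W).1 hW)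
  set m := S.sup fun W => v.asIdeal.ramificationIdx' W.asIdeal
  obtain ⟨y, hy0, hy⟩ := Groth.L11.NormApprox.exists_norm_close S
    (fun W hW => hunr W ((hS W).1 hW)) c (fun W hW => hc W ((hS W).1 hW)) (m + 1)
  set N := Algebra.norm K y with hN
  have hN0 : N ≠ 0 := Algebra.norm_ne_zero_iff.2 hy0
  obtain ⟨π, hπ⟩ := v.valuation_exists_uniformizer k
  have hπ0 : π ≠ 0 := fun h => by rw [h, map_zero] at hπ; exact exp_ne_zero hπ.symm
  -- the target
  have hNc : ∀ W : HOSK, W.asIdeal.LiesOver v.asIdeal → W.valuation K (N / c) = 1 := fun W hW => by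
    refine (Valuation.map_eq_of_sub_lt _ ?_).trans (map_one _)
    rw [map_one]
    exact (hy W ((hS W).2 hW)).trans_lt (by rw [← exp_zero, exp_lt_exp]; omega)
  have hδ : ∀ W : HOSK, W.asIdeal.LiesOver v.asIdeal →
      W.valuation K ((1 - c / N) / algebraMap k K π) ≤ 1 := fun W hW => by
    have h1 : (1 - c / N) = (N / c - 1) * (N / c)⁻¹ := by
      have hc0 : c ≠ 0 := fun h => by have := hc W hW; simp [h] at this
      field_simp
    rw [h1, map_div₀, map_mul, map_inv₀, hNc W hW, inv_one, mul_one,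
      Groth.L11.Places.val_algebraMap v, hπ, div_le_one₀ (by simp [exp])]
    refine (hy W ((hS W).2 hW)).trans ?_
    rw [← exp_nsmul, exp_le_exp, nsmul_eq_mul]
    have : v.asIdeal.ramificationIdx' W.asIdeal ≤ m := Finset.le_sup (f := fun W : HOSK => v.asIdeal.ramificationIdx' W.asIdeal) ((hS W).2 hW)
    omega
  obtain ⟨-, δt, δa, -, -, hδr⟩ := exists_lift_of_integral v _ hδ
  have hπ1 : v.valuation k π ≤ 1 := by rw [hπ, ← exp_zero, exp_le_exp]; omega
  have hπv : Valued.v (algebraMap k Kv π) = exp (-1 : ℤ) :=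
    (HeightOneSpectrum.valuedAdicCompletion_eq_valuation' v π).trans hπ
  let πv : Ov := ⟨algebraMap k Kv π, by
    rw [HeightOneSpectrum.mem_adicCompletionIntegers, hπv, ← exp_zero, exp_le_exp]; omega⟩
  have hπm : πv ∈ IsLocalRing.maximalIdeal Ov := by
    rw [IsLocalRing.mem_maximalIdeal, mem_nonunits_iff,
      HeightOneSpectrum.adicCompletionIntegers.isUnit_iff_valued_eq_one]
    show Valued.v (algebraMap k Kv π) ≠ 1
    rw [hπv, ← exp_zero, Ne, exp_inj]; omega
  -- the norm polynomial of `1 - r z`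
  let bs := Module.finBasis K L
  set M := Algebra.leftMulMatrix bs (z : L)
  have hcoef : ∀ i, ∀ W : HOSK, W.asIdeal.LiesOver v.asIdeal → W.valuation K (M.charpolyRev.coeff i) ≤ 1 := by
    intro i W _
    rw [← Matrix.reverse_charpoly, coeff_reverse]
    exact W.valuation_le_one (⟨_, isIntegral_coeff_charpoly bs z _⟩ : 𝓞 K)
  choose qs qt qa hqt hqa hq using fun i => exists_lift_of_integral v (M.charpolyRev.coeff i) (hcoef i)
  obtain ⟨u, hu, hu'⟩ := exists_unit_lift (K := K) v (M.charpolyRev.coeff 1) fun W hW => by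
    rw [Matrix.coeff_charpolyRev_eq_neg_trace, Valuation.map_neg, ← Algebra.trace_eq_matrix_trace bs,
      hz W ((hS W).2 hW)]
  let q : ℕ → Ov ⊗[𝓞 k] 𝓞 K := Function.update (fun i => qt i ⊗ₜ qa i) 1 u
  have hq' : ∀ i, toTensor K v (q i) = (1 : Kv) ⊗ₜ[k] M.charpolyRev.coeff i := fun i => by
    by_cases hi : i = 1
    · subst hi; simpa [q] using hu'
    · simpa [q, hi] using hq i
  set d := M.charpolyRev.natDegree + 2
  let P : (Ov ⊗[𝓞 k] 𝓞 K)[X] := ∑ i ∈ Finset.range d, C (q i) * X ^ i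
  let ι : K →+* Kv ⊗[k] K := (Algebra.TensorProduct.includeRight : K →ₐ[k] Kv ⊗[k] K).toRingHom
  have hP : P.map (toTensor K v).toRingHom = M.charpolyRev.map ι := by
    conv_rhs => rw [M.charpolyRev.as_sum_range' d (by omega)]
    simp only [P, Polynomial.map_sum, Polynomial.map_mul, Polynomial.map_pow, map_C, map_X,
      ← C_mul_X_pow_eq_monomial]
    exact Finset.sum_congr rfl fun i _ => by
      rw [show (toTensor K v).toRingHom (q i) = _ from hq' i]
      rfl
  let f : (Ov ⊗[𝓞 k] 𝓞 K)[X] :=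
    P - C (P.eval 0) + C (algebraMap Ov (Ov ⊗[𝓞 k] 𝓞 K) πv * (δt ⊗ₜ δa))
  haveI : IsNoetherianRing Ov := inferInstance
  obtain ⟨r, hr⟩ := exists_root_of_finite (O := Ov) (IsLocalRing.maximalIdeal Ov) f
    (by
      have : f.eval 0 = algebraMap Ov (Ov ⊗[𝓞 k] 𝓞 K) πv * (δt ⊗ₜ δa) := by simp [f]
      rw [this]
      exact Ideal.mul_mem_right _ _ (Ideal.mem_map_of_mem _ hπm))
    (by
      have hd1 : f.derivative.eval 0 = u := by
        rw [← coeff_zero_eq_eval_zero, coeff_derivative]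
        simp [f, P, coeff_C, q, finset_sum_coeff, coeff_X_pow, d]
      rw [hd1]; exact hu)
  have hr' : P.eval r = P.eval 0 - algebraMap Ov (Ov ⊗[𝓞 k] 𝓞 K) πv * (δt ⊗ₜ δa) := by
    simp only [f, eval_add, eval_sub, eval_C] at hr
    linear_combination hr
  set r' := toTensor K v r
  have hev : ∀ s, (M.charpolyRev.map ι).eval (toTensor K v s) = toTensor K v (P.eval s) := fun s => by
    rw [← hP]; exact Polynomial.eval_map_apply (toTensor K v).toRingHom s
  have h4 : (M.charpolyRev.map ι).eval r' = (1 : Kv) ⊗ₜ[k] (c / N) := by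
    rw [hev, hr', map_sub, ← hev, map_zero, map_mul, hδr]
    have h0 : (M.charpolyRev.map ι).eval 0 = 1 := by
      rw [← coeff_zero_eq_eval_zero, coeff_map, coeff_zero_eq_eval_zero, Matrix.eval_charpolyRev, map_one]
    have hπt : toTensor K v (algebraMap Ov (Ov ⊗[𝓞 k] 𝓞 K) πv) = (1 : Kv) ⊗ₜ[k] algebraMap k K π := by
      rw [Algebra.TensorProduct.algebraMap_apply, Algebra.algebraMap_self, RingHom.id_apply, toTensor_tmul]
      show (algebraMap k Kv π) ⊗ₜ[k] ((1 : 𝓞 K) : K) = _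
      rw [RingOfIntegers.coe_eq_algebraMap, map_one, Algebra.algebraMap_eq_smul_one, Algebra.algebraMap_eq_smul_one,
        TensorProduct.smul_tmul]
    rw [h0, hπt, Algebra.TensorProduct.tmul_mul_tmul, one_mul, Algebra.TensorProduct.one_def,
      ← TensorProduct.tmul_sub]
    congr 1
    rw [mul_div_cancel₀ _ ((_root_.map_ne_zero _).2 hπ0)]
    ring
  have hMmap : ∀ l : L, Algebra.leftMulMatrix (Groth.L11.RelNorm.basis (k := k) Kv bs) ((1 : Kv) ⊗ₜ[k] l) =
      (Algebra.leftMulMatrix bs l).map ι := fun l => by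
    rw [Groth.L11.RelNorm.leftMulMatrix_tmul]; rfl
  let x : Kv ⊗[k] L := ((1 : Kv) ⊗ₜ[k] y) * (1 - r' • ((1 : Kv) ⊗ₜ[k] (z : L)))
  have hx : Algebra.norm (Kv ⊗[k] K) x = (1 : Kv) ⊗ₜ[k] c := by
    have hA : Algebra.norm (Kv ⊗[k] K) ((1 : Kv) ⊗ₜ[k] y) = (1 : Kv) ⊗ₜ[k] N := by
      rw [Algebra.norm_eq_matrix_det (Groth.L11.RelNorm.basis (k := k) Kv bs), hMmap,
        hN, Algebra.norm_eq_matrix_det bs]
      exact (RingHom.map_det ι _).symm
    have hB : Algebra.norm (Kv ⊗[k] K) (1 - r' • ((1 : Kv) ⊗ₜ[k] (z : L))) =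
        (M.charpolyRev.map ι).eval r' := by
      rw [Algebra.norm_eq_matrix_det (Groth.L11.RelNorm.basis (k := k) Kv bs), map_sub, map_one, map_smul,
        hMmap, eval_map, Matrix.charpolyRev, ← coe_eval₂RingHom, RingHom.map_det]
      congr 1
      ext i j
      by_cases hij : i = j
      · subst hij; simp [M, Matrix.one_apply]; ring
      · simp [M, Matrix.one_apply, hij]; ring
    rw [map_mul, hA, hB, h4, Algebra.TensorProduct.tmul_mul_tmul, one_mul, mul_div_cancel₀ _ hN0]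
  refine ⟨x, ?_, hx⟩
  haveI : Module.Free (Kv ⊗[k] K) (Kv ⊗[k] L) :=
    Module.Free.of_basis (Groth.L11.RelNorm.basis (k := k) Kv bs)
  haveI : Module.Finite (Kv ⊗[k] K) (Kv ⊗[k] L) :=
    Module.Finite.of_basis (Groth.L11.RelNorm.basis (k := k) Kv bs)
  have hdet : IsUnit (Algebra.norm (Kv ⊗[k] K) x) := by
    rw [hx]
    refine (IsUnit.mk0 c fun h => ?_).map ι
    obtain ⟨Q, hQp, hQ⟩ := Ideal.exists_ideal_over_prime_of_isIntegral_of_isDomain (R := 𝓞 k) (S := 𝓞 K)
      v.asIdeal (by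
        rw [(RingHom.injective_iff_ker_eq_bot _).mp (FaithfulSMul.algebraMap_injective (𝓞 k) (𝓞 K))]
        exact bot_le)
    have := hc ⟨Q, hQp, @Ideal.ne_bot_of_liesOver_of_ne_bot _ _ _ _ _ _ _ v.ne_bot Q ⟨hQ.symm⟩⟩ ⟨hQ.symm⟩
    simp [h] at this
  rw [Algebra.norm_eq_matrix_det (Groth.L11.RelNorm.basis (k := k) Kv bs),
    ← Matrix.isUnit_iff_isUnit_det] at hdet
  have hsurj : Function.Surjective (LinearMap.mulLeft (Kv ⊗[k] K) x) := by
    rw [Algebra.leftMulMatrix_apply] at hdet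
    exact ((Module.End.isUnit_iff _).1 ((isUnit_map_iff (LinearMap.toMatrixAlgEquiv
      (Groth.L11.RelNorm.basis (k := k) Kv bs)) _).1 hdet)).2
  obtain ⟨x', hx'⟩ := hsurj 1
  exact IsUnit.of_mul_eq_one x' hx'

end Groth.L28.Moebius
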