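import Mathlib.RingTheory.AdicCompletion.AsTensorProduct
import Mathlib.RingTheory.AdicCompletion.Basic
import Mathlib.Algebra.Polynomial.Identities
import Mathlib.Algebra.Polynomial.Div

/-!
# Newton iteration in a ring which is finite over a complete ring
-/

set_option autoImplicit false
set_option linter.style.haveILetI false

open Polynomial
open scoped TensorProduct

namespace Groth.L28.Moebius

universe u

theorem isAdicComplete_of_finite {R : Type u} [CommRing R] [IsNoetherianRing R] (I : Ideal R)
    [IsAdicComplete I R] (M : Type u) [AddCommGroup M] [Module R M] [Module.Finite R M] :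
    IsAdicComplete I M := by
  rw [← AdicCompletion.of_bijective_iff]
  have h : ∀ m : M, AdicCompletion.of I M m =
      AdicCompletion.ofTensorProduct I M ((LinearEquiv.rTensor M (AdicCompletion.ofLinearEquiv I R))
        ((TensorProduct.lid R M).symm m)) := fun m => by
    simp [show AdicCompletion.of I R 1 = 1 from rfl]
  rw [show (AdicCompletion.of I M : M → AdicCompletion I M) = _ from funext h]
  exact (AdicCompletion.ofTensorProduct_bijective_of_finite_of_isNoetherian I M).comp
    ((LinearEquiv.rTensor M (AdicCompletion.ofLinearEquiv I R)).bijective.comp (TensorProduct.lid R M).symm.bijective)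

/-- An approximate root with invertible derivative lifts to a root. -/
theorem exists_root {S : Type u} [CommRing S] (J : Ideal S) [hJ : IsAdicComplete J S] (f : S[X])
    (h0 : f.eval 0 ∈ J) (h1 : IsUnit (f.derivative.eval 0)) : ∃ r : S, f.eval r = 0 := by
  obtain ⟨u, hu⟩ := h1
  let seq : ℕ → S := fun n => n.rec 0 fun _ x => x - ↑u⁻¹ * f.eval x
  have hseq : ∀ n, seq (n + 1) = seq n - ↑u⁻¹ * f.eval (seq n) := fun n => rfl
  have key : ∀ n, seq n ∈ J ∧ f.eval (seq n) ∈ J ^ (n + 1) := fun n => by
    induction n with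
    | zero => exact ⟨J.zero_mem, by simpa [seq] using h0⟩
    | succ n ih =>
      obtain ⟨hx, hfx⟩ := ih
      have hy : ↑u⁻¹ * f.eval (seq n) ∈ J ^ (n + 1) := Ideal.mul_mem_left _ _ hfx
      refine ⟨?_, ?_⟩
      · rw [hseq]
        exact sub_mem hx (Ideal.pow_le_self n.succ_ne_zero hy)
      · obtain ⟨q, hq⟩ := binomExpansion f (seq n) (-(↑u⁻¹ * f.eval (seq n)))
        have hd : f.derivative.eval (seq n) - f.derivative.eval 0 ∈ J := by
          refine J.mem_of_dvd (sub_dvd_eval_sub (seq n) 0 f.derivative) ?_
          rwa [sub_zero]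
        rw [hseq, sub_eq_add_neg, hq,
          show f.eval (seq n) + f.derivative.eval (seq n) * -(↑u⁻¹ * f.eval (seq n)) +
              q * (-(↑u⁻¹ * f.eval (seq n))) ^ 2 =
            (f.derivative.eval (seq n) - f.derivative.eval 0) * (-(↑u⁻¹ * f.eval (seq n))) +
              q * (↑u⁻¹ * f.eval (seq n)) ^ 2 by
            have hu' : f.derivative.eval 0 * (↑u⁻¹ : S) = 1 := by rw [← hu]; exact u.mul_inv
            linear_combination (-(f.eval (seq n))) * hu']
        refine add_mem ?_ (Ideal.mul_mem_left _ _ ?_)
        · rw [pow_succ' J (n + 1)]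
          exact Ideal.mul_mem_mul hd (neg_mem hy)
        · have h2 := Ideal.pow_mem_pow hy 2
          rw [← pow_mul] at h2
          exact Ideal.pow_le_pow_right (by omega) h2
  have hcau : ∀ {m n : ℕ}, m ≤ n → seq m ≡ seq n [SMOD (J ^ m • ⊤ : Submodule S S)] := by
    intro m n hmn
    induction hmn with
    | refl => exact SModEq.refl _
    | @step n hmn ih =>
      refine ih.trans ?_
      rw [SModEq.sub_mem, smul_eq_mul, Ideal.mul_top, hseq, sub_sub_cancel]
      exact Ideal.mul_mem_left _ _
        (Ideal.pow_le_pow_right (show m ≤ n + 1 from (Nat.le_trans hmn n.le_succ)) (key n).2)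
  obtain ⟨r, hr⟩ := hJ.toIsPrecomplete.prec' seq hcau
  refine ⟨r, hJ.toIsHausdorff.haus' _ fun n => ?_⟩
  have h2 := hr n
  rw [SModEq.sub_mem, smul_eq_mul, Ideal.mul_top] at h2 ⊢
  rw [sub_zero]
  have h3 : f.eval (seq n) - f.eval r ∈ J ^ n := (J ^ n).mem_of_dvd (sub_dvd_eval_sub (seq n) r f) h2
  have h4 : f.eval (seq n) ∈ J ^ n := Ideal.pow_le_pow_right n.le_succ (key n).2
  simpa using sub_mem h4 h3

/-- The same, for a ring finite over a complete noetherian ring. -/
theorem exists_root_of_finite {O : Type u} [CommRing O] [IsNoetherianRing O] (I : Ideal O)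
    [IsAdicComplete I O] {S : Type u} [CommRing S] [Algebra O S] [Module.Finite O S] (f : S[X])
    (h0 : f.eval 0 ∈ I.map (algebraMap O S)) (h1 : IsUnit (f.derivative.eval 0)) :
    ∃ r : S, f.eval r = 0 := by
  haveI := isAdicComplete_of_finite I S
  haveI : IsAdicComplete (I.map (algebraMap O S)) S := (IsAdicComplete.map_algebraMap_iff _ _).mpr this
  exact exists_root (I.map (algebraMap O S)) f h0 h1

end Groth.L28.Moebius
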